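import Cfsg.Agent.H720.PV.Tools
import Cfsg.Agent.H612.BNAut
import Cfsg.Agent.FastGrp
import Cfsg.Agent.Prune
set_option linter.all false
prune_inst 0x7f00000000000000000000000000000000000000000000000000000000000000000000000000000000000000000000000000000000000000000000000000000000000000000000000000000000000000003fffffffffffffffffffffffffffbeffbdffffffff
open scoped Cfsg.Agent.FastGrp

/-!
# Zeros of characters without fixed vectors (helper720)

* `zero_of_regular` : class function form of `H710.Cuspidal.zero_of_regular`;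
* `vz_of_split` : in a group with a split (B,N)-pair every element normalising `U` without nontrivial fixed points on
  `U` is a `VZ` element.
-/

set_option autoImplicit false

open scoped Pointwise

namespace Cfsg.Agent.H720.PV

open Cfsg Cfsg.Agent.Characters Cfsg.Agent.H387.VO Cfsg.Agent.H620 Cfsg.Agent.H665.NoPQ Cfsg.Agent.FixBN

theorem zero_of_regular {G : Type*} [Group G] (U : Subgroup G) [Fintype U] {χ : G → ℂ} (hχ : IsIrrCharacter G χ)
    (h : ∑ u : U, χ u = 0) {x : G} (hx : ∀ u, u ∈ U ↔ x * u * x⁻¹ ∈ U) (hreg : ∀ u ∈ U, x * u = u * x → u = 1) :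
    χ x = 0 := by
  obtain ⟨n, ρ, hρ, rfl⟩ := hχ
  exact H710.Cuspidal.zero_of_regular ρ U h hx hreg

/-- An element normalising `U` without nontrivial fixed points on `U` is a `VZ` element. -/
theorem vz_of_split {K : Type*} [Group K] [Finite K] {P : Cfsg.BNPair K} {r : ℕ} [hr : Fact r.Prime]
    {U : Subgroup K} (h : Split P r U) (hne : P.S.Nonempty) {x : K} (hx : ∀ u, u ∈ U ↔ x * u * x⁻¹ ∈ U)
    (hreg : ∀ u ∈ U, x * u = u * x → u = 1) : H713.VZ K x := by
  classical
  have : Fintype U := Fintype.ofFinite U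
  obtain ⟨χ, hχ⟩ := H40.GGS.exists_no_fixed h hne
  refine ⟨χ, fun α => ?_⟩
  -- the image of `U` is a conjugate of `U`
  obtain ⟨Q, hQ⟩ := H612.CharTwo.exists_sylow h
  obtain ⟨g, hg⟩ := MulAction.exists_smul_eq K Q (α • Q)
  have hmem : ∀ y : K, y ∈ U ↔ α.symm (g * y * g⁻¹) ∈ U := by
    intro y
    have h1 : (g * y * g⁻¹) ∈ ((g • Q : Sylow r K) : Subgroup K) ↔ y ∈ (Q : Subgroup K) := by
      rw [Sylow.coe_subgroup_smul]
      constructor
      · intro hy
        rw [Subgroup.mem_pointwise_smul_iff_inv_smul_mem] at hy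
        simpa [mul_assoc] using hy
      · intro hy
        rw [Subgroup.mem_pointwise_smul_iff_inv_smul_mem]
        simpa [mul_assoc] using hy
    have h2 : (g * y * g⁻¹) ∈ ((α • Q : Sylow r K) : Subgroup K) ↔ α.symm (g * y * g⁻¹) ∈ (Q : Subgroup K) := by
      rw [Sylow.pointwise_smul_def, Subgroup.mem_pointwise_smul_iff_inv_smul_mem]
      rfl
    rw [← hQ, ← h1, hg, h2]
  -- move to `g⁻¹ α(x) g`
  have hcl : (χ : K → ℂ) (α x) = (χ : K → ℂ) (g⁻¹ * α x * g) := by
    have := Core.isIrr_isClassFunction χ.2 (α x) g⁻¹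
    rw [inv_inv] at this
    exact this.symm
  rw [hcl]
  refine zero_of_regular U χ.2 hχ (fun u => ?_) fun u hu hc => ?_
  · rw [hmem u, hmem (g⁻¹ * α x * g * u * (g⁻¹ * α x * g)⁻¹), hx]
    have e : α.symm (g * (g⁻¹ * α x * g * u * (g⁻¹ * α x * g)⁻¹) * g⁻¹) =
        x * α.symm (g * u * g⁻¹) * x⁻¹ := by
      have e1 : g * (g⁻¹ * α x * g * u * (g⁻¹ * α x * g)⁻¹) * g⁻¹ = α x * (g * u * g⁻¹) * (α x)⁻¹ := by group
      rw [e1, map_mul, map_mul, map_inv, MulEquiv.symm_apply_apply]
    rw [e]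
  · have h1 := hreg _ ((hmem u).1 hu) (by
      have e1 : α x * (g * u * g⁻¹) = (g * u * g⁻¹) * α x := by
        have h2 : g * (g⁻¹ * α x * g * u) * g⁻¹ = g * (u * (g⁻¹ * α x * g)) * g⁻¹ := by rw [hc]
        calc α x * (g * u * g⁻¹) = g * (g⁻¹ * α x * g * u) * g⁻¹ := by group
          _ = g * (u * (g⁻¹ * α x * g)) * g⁻¹ := h2
          _ = (g * u * g⁻¹) * α x := by group
      have h3 := congrArg α.symm e1
      rw [map_mul, map_mul α.symm (g * u * g⁻¹), MulEquiv.symm_apply_apply] at h3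
      exact h3)
    have h2 : g * u * g⁻¹ = 1 := by
      have := congrArg α h1
      rwa [MulEquiv.apply_symm_apply, map_one] at this
    have h3 : u = g⁻¹ * (g * u * g⁻¹) * g := by group
    rw [h3, h2]; group

end Cfsg.Agent.H720.PV
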