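import Cfsg.Agent.H387.VO.Main
import Cfsg.Agent.H713.Invol
import Cfsg.Agent.H620.Kill
import Cfsg.Agent.H40.GGRgd
import Cfsg.Agent.Blocks.Knorr
import Cfsg.Agent.Prune
set_option linter.all false
prune_inst 0x7f00000000000000000000000000000000000000000000000000000000000000000000000000000000000000000000000000000000000000000000000000000000000000000000000000000000000000003fffffffffffffffffffffffffffbeffbdffffffff
open scoped Cfsg.Agent.FastGrp

/-!
# Tools for the rows `TwoVan p S` of S4987 (helper720)

* `twoVan_of_kill` : `Kill S r` and two elements of different orders divisible by `p` and `r`;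
* `twoVan_of_mul` : the same with commuting pairs `s, u`;
* `twoVan_of_hasDZ` : a character of `p`-defect zero and two `p`-singular elements of different orders;
* `twoVan_of_hasDZ_orderOf` : a character of `p`-defect zero and a `p`-singular element of order `≠ p`;
* `vz_of_no_fixed` : a `p`-element acting fixed point freely on the unipotent radical `V` is a zero of all characters
  without `V`-fixed vectors.
-/

set_option autoImplicit false

namespace Cfsg.Agent.H720.PV

open Cfsg Cfsg.Agent.Characters Cfsg.Agent.H387.VO Cfsg.Agent.H620 Cfsg.Agent.H665.NoPQ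

variable {S : Type*} [Group S]

/-- Two elements of different orders, both divisible by `p` and by `r`. -/
theorem twoVan_of_kill {p r : ℕ} (h : Kill S r) {x y : S} (hx : p ∣ orderOf x) (hx' : r ∣ orderOf x)
    (hy : p ∣ orderOf y) (hy' : r ∣ orderOf y) (hne : orderOf x ≠ orderOf y) : TwoVan p S :=
  TwoVan.of_order hx hy (h.vz hx') (h.vz hy') hne

/-- Two elements, both divisible by `p` and by `r`, not conjugate under automorphisms. -/
theorem twoVan_of_kill' {p r : ℕ} (h : Kill S r) {x y : S} (hx : p ∣ orderOf x) (hx' : r ∣ orderOf x)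
    (hy : p ∣ orderOf y) (hy' : r ∣ orderOf y) (hne : ∀ α : MulAut S, α x ≠ y) : TwoVan p S :=
  ⟨x, y, hx, hy, h.vz hx', h.vz hy', hne⟩

/-- A character of `p`-defect zero and two `p`-singular elements of different orders. -/
theorem twoVan_of_hasDZ [Finite S] {p : ℕ} [Fact p.Prime] (h : HasDZ p S) {x y : S} (hx : p ∣ orderOf x)
    (hy : p ∣ orderOf y) (hne : orderOf x ≠ orderOf y) : TwoVan p S :=
  TwoVan.of_order hx hy (H713.HasDZ.vz h hx) (H713.HasDZ.vz h hy) hne

/-- A character of `p`-defect zero and a `p`-singular element whose order is not `p`. -/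
theorem twoVan_of_hasDZ_orderOf [Finite S] {p : ℕ} [hp : Fact p.Prime] (h : HasDZ p S) {x : S}
    (hx : p ∣ orderOf x) (hne : orderOf x ≠ p) : TwoVan p S := by
  obtain ⟨y, hy⟩ := exists_prime_orderOf_dvd_card' (G := S) p (hx.trans (orderOf_dvd_natCard x))
  exact twoVan_of_hasDZ h hx (by rw [hy]) (by rw [hy]; exact hne)

/-- A character of `p`-defect zero from the degree. -/
theorem hasDZ_of_degree [Finite S] {p : ℕ} [hp : Fact p.Prime] {χ : S → ℂ} (hχ : IsIrrCharacter S χ) {d : ℕ}
    (hd : χ 1 = (d : ℂ)) (h : p ^ (Nat.card S).factorization p ∣ d) : HasDZ p S := by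
  refine ⟨⟨χ, hχ⟩, ?_⟩
  have h1 : charDegree χ = d := by
    have := Cfsg.Agent.Blocks.Basic.irr_one_eq_charDegree hχ
    rw [hd] at this
    exact_mod_cast this.symm
  show (charDegree χ).factorization p = _
  rw [h1]
  have hd0 : d ≠ 0 := by
    rintro rfl
    obtain ⟨n, hn, hn'⟩ := Cfsg.Agent.Characters.Core.isIrr_apply_one hχ
    rw [hd] at hn'
    have : n = 0 := by exact_mod_cast hn'.symm
    omega
  have hdvd : d ∣ Nat.card S := by
    rw [← h1]
    exact Cfsg.Agent.Blocks.Knorr.charDegree_dvd hχ
  apply le_antisymm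
  · exact (Nat.factorization_le_iff_dvd hd0 Nat.card_pos.ne').2 hdvd p
  · exact (hp.out.pow_dvd_iff_le_factorization hd0).1 h

end Cfsg.Agent.H720.PV
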